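import Groth.Agent.ResProp.EF.K294.Tor
import Groth.Agent.ResProp.EF.K294.Flat
import Groth.Agent.Dcoh.LeftRes

/-!
# Bounded complexes of flat modules and `TorGE`
-/

set_option autoImplicit false
set_option backward.defeqAttrib.useBackward true
set_option backward.isDefEq.respectTransparency false

universe w' w v u

open CategoryTheory CategoryTheory.Limits MonoidalCategory HomologicalComplex

namespace Groth.Agent.ResProp.EF.K78

open Groth.Agent.Dcoh.KFlatAbs Groth.Agent.Dcoh.KFlatSingle Groth.Agent.Dcoh.KFlatBdd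
  Groth.Agent.PerfB.RingKFlat Groth.Agent.Dcoh.KFlatFlip Groth.Agent.Dcoh.KFlatSES
  Groth.Agent.Htor.H240.FlatTens K294

section bot

variable {C : Type v} [Category.{w} C] [Abelian C] (K : CochainComplex C ℤ) (a : ℤ) [K.IsStrictlyGE a]

/-- the projection to the lowest degree term. -/
noncomputable def toBot : K ⟶ (single C (ComplexShape.up ℤ) a).obj (K.X a) :=
  mkHomToSingle (𝟙 _) (by
    intro i hi
    have : IsZero (K.X i) := K.isZero_of_isStrictlyGE a i (by
      simp only [ComplexShape.up_Rel] at hi; omega)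
    exact this.eq_of_src _ _)

lemma toBot_f : (toBot K a).f a = (singleObjXSelf (ComplexShape.up ℤ) a (K.X a)).inv := by
  simp [toBot]

instance : IsIso ((toBot K a).f a) := by
  rw [toBot_f]; infer_instance

instance (i : ℤ) : Epi ((toBot K a).f i) := by
  by_cases hi : i = a
  · subst hi; infer_instance
  · have : IsZero (((single C (ComplexShape.up ℤ) a).obj (K.X a)).X i) := isZero_single_obj_X _ _ _ _ hi
    exact ⟨fun _ _ _ => this.eq_of_src _ _⟩

instance : Epi (toBot K a) := HomologicalComplex.epi_of_epi_f _ (fun _ => inferInstance)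

/-- the short exact sequence `σ^{>a} K ⟶ K ⟶ K^a[-a]`. -/
noncomputable def botSES : ShortComplex (CochainComplex C ℤ) :=
  ShortComplex.mk (kernel.ι (toBot K a)) (toBot K a) (kernel.condition _)

lemma botSES_shortExact : (botSES K a).ShortExact where
  exact := ShortComplex.exact_kernel _
  mono_f := by dsimp [botSES]; infer_instance
  epi_g := by dsimp [botSES]; infer_instance

lemma botSES_eval (i : ℤ) : ((botSES K a).map (eval C (ComplexShape.up ℤ) i)).ShortExact :=
  (botSES_shortExact K a).map_of_exact _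

/-- the terms of `σ^{>a} K` in degrees `≠ a`. -/
noncomputable def kerIso (i : ℤ) (hi : i ≠ a) : (kernel (toBot K a)).X i ≅ K.X i := by
  have h := botSES_eval K a i
  have hz : IsZero (((single C (ComplexShape.up ℤ) a).obj (K.X a)).X i) := isZero_single_obj_X _ _ _ _ hi
  have hm : Mono ((kernel.ι (toBot K a)).f i) := h.mono_f
  have he : Epi ((kernel.ι (toBot K a)).f i) := (h.exact.epi_f_iff).2 (hz.eq_of_tgt _ _)
  have : IsIso ((kernel.ι (toBot K a)).f i) := isIso_of_mono_of_epi _
  exact asIso ((kernel.ι (toBot K a)).f i)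

lemma isZero_ker (i : ℤ) (hi : i ≤ a) : IsZero ((kernel (toBot K a)).X i) := by
  have h := botSES_eval K a i
  have hm : Mono ((kernel.ι (toBot K a)).f i) := h.mono_f
  rcases hi.lt_or_eq with hi | hi
  · have := K.isZero_of_isStrictlyGE a i hi
    exact IsZero.of_mono ((kernel.ι (toBot K a)).f i) this
  · subst hi
    have h1 : (kernel.ι (toBot K i)).f i ≫ (toBot K i).f i = 0 := by
      rw [← HomologicalComplex.comp_f, kernel.condition]; rfl
    have h2 : (kernel.ι (toBot K i)).f i = 0 := by
      rw [← cancel_mono ((toBot K i).f i), h1, zero_comp]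
    rw [IsZero.iff_id_eq_zero, ← cancel_mono ((kernel.ι (toBot K i)).f i), h2]
    simp

instance : (kernel (toBot K a)).IsStrictlyGE (a + 1) := by
  rw [CochainComplex.isStrictlyGE_iff]
  intro i hi
  exact isZero_ker K a i (by omega)

lemma ker_isStrictlyLE (b : ℤ) [K.IsStrictlyLE b] : (kernel (toBot K a)).IsStrictlyLE b := by
  rw [CochainComplex.isStrictlyLE_iff]
  intro i hi
  have h := botSES_eval K a i
  have hm : Mono ((kernel.ι (toBot K a)).f i) := h.mono_f
  have := K.isZero_of_isStrictlyLE b i hi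
  exact IsZero.of_mono ((kernel.ι (toBot K a)).f i) this

end bot

variable {A : Type u} [CommRing A]

/-- bounded complexes of flat modules. -/
theorem torGE_of_flat (K : CM A) (a b : ℤ) [K.IsStrictlyGE a] [K.IsStrictlyLE b]
    (hK : ∀ i, Module.Flat A (K.X i)) : TorGE a K := by
  intro L hL i hi
  have hLE := hL.le
  have hGE : L.IsGE 0 := (CochainComplex.isGE_iff L 0).2 (fun i hi => hL.exact i hi)
  have h1 : KFl (TR A).flip K := kfl_flip K hK (b := b)
    (fun i hi => (CochainComplex.isStrictlyLE_iff K b).1 inferInstance i hi)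
  have h2 : QuasiIso (((TR A).map₂CochainComplex.obj K).map (L.πTruncGE 0)) := quasiIso_of_kfl_flip h1 _
  have h3 : (((TR A).map₂CochainComplex.obj K).obj (L.truncGE 0)).ExactAt i := by
    obtain ⟨M, ⟨e⟩⟩ := (L.truncGE 0).exists_iso_single 0
    refine ExactAt.of_iso ?_ (((TR A).map₂CochainComplex.obj K).mapIso e.symm)
    refine ExactAt.of_iso ?_ (singleIso (TR A) K M)
    refine ShortComplex.exact_of_isZero_X₂ _ ?_
    exact ((TR A).flip.obj M).map_isZero (K.isZero_of_isStrictlyGE a i hi)
  exact (exactAt_iff_of_quasiIsoAt (((TR A).map₂CochainComplex.obj K).map (L.πTruncGE 0)) i).2 h3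

/-- `Module.Flat` for zero objects. -/
lemma flat_of_isZero {M : ModuleCat.{u} A} (h : IsZero M) : Module.Flat A M := by
  have : Subsingleton M := ModuleCat.subsingleton_of_isZero h
  infer_instance

lemma flat_of_iso {M N : ModuleCat.{u} A} (e : M ≅ N) (h : Module.Flat A M) : Module.Flat A N :=
  Module.Flat.of_linearEquiv e.toLinearEquiv.symm

lemma torGE_ker (K : CM A) (a b : ℤ) [K.IsStrictlyGE a] [K.IsStrictlyLE b]
    (hK : ∀ i, a < i → Module.Flat A (K.X i)) : TorGE (a + 1) (kernel (toBot K a)) := by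
  have := ker_isStrictlyLE K a b
  refine torGE_of_flat _ (a + 1) b (fun i => ?_)
  by_cases hi : a < i
  · exact flat_of_iso (kerIso K a i (by omega)).symm (hK i hi)
  · exact flat_of_isZero (isZero_ker K a i (by omega))

lemma torGE_single_of_torGE (K : CM A) (a b : ℤ) [K.IsStrictlyGE a] [K.IsStrictlyLE b]
    (hK : ∀ i, a < i → Module.Flat A (K.X i)) (h : TorGE a K) :
    TorGE a ((single (ModuleCat.{u} A) (ComplexShape.up ℤ) a).obj (K.X a)) :=
  TorGE.ses₃ (botSES_shortExact K a) (torGE_ker K a b hK) h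

/-- the injectivity of `H^a(K ⊗ L) ⟶ K^a ⊗ H^0(L)` for `K` a complex of flats in degrees `≥ a`. -/
lemma mono_homologyMap_toBot (K : CM A) (a b : ℤ) [K.IsStrictlyGE a] [K.IsStrictlyLE b]
    (hK : ∀ i, a < i → Module.Flat A (K.X i)) {L : CM A} (hL : IsTest L) :
    Mono (homologyMap ((tensR L).map (toBot K a)) a) := by
  have h1 := torGE_ker K a b hK L hL a (by omega)
  rw [exactAt_iff_isZero_homology] at h1
  have h2 := (shortExact_tens (botSES_shortExact K a) hL).homology_exact₂ a
  exact h2.mono_g (h1.eq_of_src _ _)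

lemma flat_of_torGE_single' (M : ModuleCat.{u} A) (a : ℤ)
    (h : TorGE a ((single (ModuleCat.{u} A) (ComplexShape.up ℤ) a).obj M)) : Module.Flat A M := by
  apply flat_of_torGE_single
  have e : ((single (ModuleCat.{u} A) (ComplexShape.up ℤ) a).obj M)⟦a⟧ ≅
      (single (ModuleCat.{u} A) (ComplexShape.up ℤ) 0).obj M :=
    ((CochainComplex.singleFunctors (ModuleCat.{u} A)).shiftIso a 0 a (add_zero a)).app M
  refine TorGE.of_iso e ((torGE_shift_iff _ a).2 ?_)
  rwa [zero_add]

/-- the lowest term is flat if the other terms are and the lower Tor bound is right. -/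
theorem flat_bottom (K : CM A) (a b : ℤ) [K.IsStrictlyGE a] [K.IsStrictlyLE b]
    (hK : ∀ i, a < i → Module.Flat A (K.X i)) (h : TorGE a K) : Module.Flat A (K.X a) :=
  flat_of_torGE_single' _ a (torGE_single_of_torGE K a b hK h)

lemma truncGE_isStrictlyLE {C : Type v} [Category.{w} C] [Abelian C] (K : CochainComplex C ℤ) (a b : ℤ)
    [K.IsStrictlyLE b] : (K.truncGE a).IsStrictlyLE b := by
  rw [CochainComplex.isStrictlyLE_iff]
  intro i hi
  have := K.isZero_of_isStrictlyLE b i hi
  have h1 : Epi ((K.πTruncGE a).f i) := by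
    have : Epi (K.πTruncGE a) := inferInstanceAs (Epi (HomologicalComplex.πTruncGE K _))
    infer_instance
  exact IsZero.of_epi ((K.πTruncGE a).f i) this

/-- a bounded complex of lower Tor bound `a` in degrees `[a, b]` is a termwise quotient of a quasi-isomorphic
complex of flat modules in degrees `[a, b]`. -/
theorem exists_cover (K : CM A) (a b : ℤ) [K.IsStrictlyGE a] [K.IsStrictlyLE b] (h : TorGE a K) :
    ∃ (G : CM A) (e : G ⟶ K), G.IsStrictlyGE a ∧ G.IsStrictlyLE b ∧ (∀ i, Module.Flat A (G.X i)) ∧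
      (∀ i, Epi (e.f i)) ∧ QuasiIso e := by
  obtain ⟨L, p, hL1, hL2, hL3, hL4⟩ := Groth.Agent.Dcoh.LeftRes.exists_resolution_of_isStrictlyLE
    (goodClass_projective A) K b
  have hGE : L.IsGE a := by
    rw [CochainComplex.isGE_iff]
    intro i hi
    exact (exactAt_iff_of_quasiIsoAt p i).2 (K.exactAt_of_isGE a i hi)
  have h1 : (L.truncGE a).IsStrictlyLE b := truncGE_isStrictlyLE L a b
  let e : L.truncGE a ⟶ K := CochainComplex.truncGEMap p a ≫ inv (K.πTruncGE a)
  have he : L.πTruncGE a ≫ e = p := by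
    simp only [e]
    rw [CochainComplex.πTruncGE_naturality_assoc, IsIso.hom_inv_id, Category.comp_id]
  have hq : QuasiIso e := by
    have : QuasiIso (L.πTruncGE a ≫ e) := by rw [he]; exact hL4
    exact quasiIso_of_comp_left (L.πTruncGE a) e
  have hT : TorGE a (L.truncGE a) := (torGE_iff_of_quasiIso e).2 h
  have hfl : ∀ i, a < i → Module.Flat A ((L.truncGE a).X i) := by
    intro i hi
    have := hL2 i
    have h3 : Module.Projective A (L.X i) := inferInstance
    exact flat_of_iso (L.truncGEXIso a i hi).symm inferInstance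
  refine ⟨L.truncGE a, e, inferInstance, h1, fun i => ?_, fun i => ?_, hq⟩
  · rcases lt_trichotomy i a with hi | hi | hi
    · exact flat_of_isZero ((L.truncGE a).isZero_of_isStrictlyGE a i hi)
    · subst hi
      exact flat_bottom _ i b hfl hT
    · exact hfl i hi
  · have : Epi ((L.πTruncGE a).f i ≫ e.f i) := by
      rw [← HomologicalComplex.comp_f, he]; exact hL3 i
    exact epi_of_epi ((L.πTruncGE a).f i) (e.f i)

end Groth.Agent.ResProp.EF.K78
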