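import Groth.Agent.ResProp.EF.K78.FlatBdd
import Groth.Agent.ModSite.K294.FreeRes
import Mathlib.Algebra.Homology.HomotopyCategory.ShortExact
import Mathlib.CategoryTheory.Limits.Shapes.Pullback.IsPullback.Kernels
import Mathlib.Algebra.Category.ModuleCat.Biproducts

/-!
# LEMMA T: complexes of finite Tor-amplitude are quasi-isomorphic to bounded complexes of flat objects

`exists_flatModel`: `X : Chart A C`, `P` a complex in degrees `[a, b]` with `TorGE a (us P)`. Then there are `W`, `F` and
quasi-isomorphisms `W ⟶ P` (epimorphism), `W ⟶ F`, `W` in degrees `≥ a`, `F` in degrees `[a, b]` with flat terms.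
-/

set_option autoImplicit false
set_option backward.defeqAttrib.useBackward true
set_option backward.isDefEq.respectTransparency false

universe w' w v u

open CategoryTheory CategoryTheory.Limits MonoidalCategory HomologicalComplex CochainComplex

namespace Groth.Agent.ResProp.EF.K78

open Groth.Agent.Dcoh.KFlatAbs Groth.Agent.Dcoh.KFlatSingle Groth.Agent.Dcoh.KFlatBdd
  Groth.Agent.PerfB.RingKFlat Groth.Agent.Dcoh.KFlatFlip Groth.Agent.Dcoh.KFlatSES
  Groth.Agent.Htor.H240.FlatTens Groth.Agent.ResProp.EF.K294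

section general

variable {C : Type v} [Category.{w} C] [Abelian C]

lemma quasiIso_g {S : ShortComplex (CochainComplex C ℤ)} (hS : S.ShortExact) (h : S.X₁.Acyclic) :
    QuasiIso S.g := by
  refine ⟨fun i => ?_⟩
  rw [quasiIsoAt_iff_isIso_homologyMap]
  have h1 := (exactAt_iff_isZero_homology _ _).1 (h i)
  have h2 := (exactAt_iff_isZero_homology _ _).1 (h (i + 1))
  have hm : Mono (homologyMap S.g i) := (hS.homology_exact₂ i).mono_g (h1.eq_of_src _ _)
  have he : Epi (homologyMap S.g i) := (hS.homology_exact₃ i (i + 1) rfl).epi_f (h2.eq_of_tgt _ _)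
  exact isIso_of_mono_of_epi _

lemma acyclic_kernel {K L : CochainComplex C ℤ} (g : K ⟶ L) [Epi g] [QuasiIso g] : (kernel g).Acyclic := by
  let S : ShortComplex (CochainComplex C ℤ) := ShortComplex.mk (kernel.ι g) g (kernel.condition g)
  have hS : S.ShortExact := { exact := ShortComplex.exact_kernel g }
  exact hS.acyclic_X₁ (by assumption)

lemma quasiIso_of_acyclic_kernel {K L : CochainComplex C ℤ} (g : K ⟶ L) [Epi g] (h : (kernel g).Acyclic) :
    QuasiIso g := by
  let S : ShortComplex (CochainComplex C ℤ) := ShortComplex.mk (kernel.ι g) g (kernel.condition g)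
  have hS : S.ShortExact := { exact := ShortComplex.exact_kernel g }
  exact quasiIso_g hS h

/-- pull-backs of surjective quasi-isomorphisms. -/
lemma quasiIso_pullback_fst {K L M : CochainComplex C ℤ} (f : K ⟶ M) (g : L ⟶ M) [Epi g] [QuasiIso g] :
    QuasiIso (pullback.fst f g) := by
  have sq : IsPullback (pullback.snd f g) (pullback.fst f g) g f := (IsPullback.of_hasPullback f g).flip
  have h1 : IsIso (kernel.map _ _ _ _ sq.flip.w) := isIso_kernel_map_of_isPullback sq.flip
  have h2 : (kernel (pullback.fst f g)).Acyclic := fun i =>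
    (acyclic_kernel g i).of_iso (asIso (kernel.map _ _ _ _ sq.flip.w)).symm
  exact quasiIso_of_acyclic_kernel _ h2

lemma isZero_pullback_X {K L M : CochainComplex C ℤ} (f : K ⟶ M) (g : L ⟶ M) (i : ℤ)
    (h₁ : IsZero (K.X i)) (h₂ : IsZero (L.X i)) : IsZero ((pullback f g).X i) := by
  have h := (IsPullback.of_hasPullback f g).map (eval C (ComplexShape.up ℤ) i)
  rw [IsZero.iff_id_eq_zero]
  exact h.hom_ext (h₁.eq_of_tgt _ _) (h₂.eq_of_tgt _ _)

/-- maps from a single complex in the lowest degree lift along quasi-isomorphisms. -/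
lemma exists_lift_single {W P : CochainComplex C ℤ} (a : ℤ) [W.IsStrictlyGE a] [P.IsStrictlyGE a]
    (s : W ⟶ P) [QuasiIso s] {E : C} (f : (single C (ComplexShape.up ℤ) a).obj E ⟶ P) :
    ∃ g : (single C (ComplexShape.up ℤ) a).obj E ⟶ W, g ≫ s = f := by
  have hW : IsIso (W.homologyπ a) := W.isIso_homologyπ (a - 1) a (by simp)
    ((W.isZero_of_isStrictlyGE a (a - 1) (by omega)).eq_of_src _ _)
  have hP : IsIso (P.homologyπ a) := P.isIso_homologyπ (a - 1) a (by simp)
    ((P.isZero_of_isStrictlyGE a (a - 1) (by omega)).eq_of_src _ _)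
  have h1 : IsIso (homologyMap s a) := inferInstance
  have h2 : IsIso (cyclesMap s a) := by
    have h3 : cyclesMap s a = W.homologyπ a ≫ homologyMap s a ≫ inv (P.homologyπ a) := by
      rw [← Category.assoc, homologyπ_naturality, Category.assoc, IsIso.hom_inv_id, Category.comp_id]
    rw [h3]; infer_instance
  let c : E ⟶ P.cycles a := P.liftCycles ((singleObjXSelf (ComplexShape.up ℤ) a E).inv ≫ f.f a) (a + 1) (by simp) (by
    rw [Category.assoc, f.comm]
    rw [single_obj_d]
    simp)
  refine ⟨mkHomFromSingle (c ≫ inv (cyclesMap s a) ≫ W.iCycles a) (fun k hk => by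
    simp only [Category.assoc, iCycles_d, comp_zero]), ?_⟩
  apply from_single_hom_ext
  rw [comp_f, mkHomFromSingle_f]
  simp only [Category.assoc]
  rw [← cyclesMap_i, IsIso.inv_hom_id_assoc, liftCycles_i, Iso.hom_inv_id_assoc]

/-- cones of surjections. -/
lemma epi_mappingCone_map {S W P : CochainComplex C ℤ} (g : S ⟶ W) (f : S ⟶ P) (s : W ⟶ P) [Epi s]
    (h : g ≫ s = 𝟙 S ≫ f) : Epi (mappingCone.map g f (𝟙 S) s h) := by
  refine HomologicalComplex.epi_of_epi_f _ (fun n => ⟨fun u v huv => ?_⟩)
  apply mappingCone.ext_from (i := n + 1) (j := n) (hij := rfl)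
  · have h1 := (mappingCone.inl g).v (n + 1) n (by omega) ≫= huv
    simpa [mappingCone.map] using h1
  · have h2 := (mappingCone.inr g).f n ≫= huv
    rw [← cancel_epi (s.f n)]
    simpa [mappingCone.map] using h2

end general

section cone

open TensorProduct in
theorem flat_prod {R A B : Type u} [CommRing R] [AddCommGroup A] [AddCommGroup B] [Module R A]
    [Module R B] [Module.Flat R A] [Module.Flat R B] : Module.Flat R (A × B) := by
  rw [Module.Flat.iff_lTensor_preserves_injective_linearMap]
  intro P P' _ _ _ _ f hf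
  rw [injective_iff_map_eq_zero]
  intro z hz
  have h1 : (LinearMap.fst R A B).rTensor P z = 0 := by
    apply (injective_iff_map_eq_zero _).mp
      (Module.Flat.lTensor_preserves_injective_linearMap (M := A) f hf)
    rw [← LinearMap.comp_apply, LinearMap.lTensor_comp_rTensor, ← LinearMap.rTensor_comp_lTensor,
      LinearMap.comp_apply, hz, map_zero]
  have h2 : (LinearMap.snd R A B).rTensor P z = 0 := by
    apply (injective_iff_map_eq_zero _).mp
      (Module.Flat.lTensor_preserves_injective_linearMap (M := B) f hf)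
    rw [← LinearMap.comp_apply, LinearMap.lTensor_comp_rTensor, ← LinearMap.rTensor_comp_lTensor,
      LinearMap.comp_apply, hz, map_zero]
  have h3 : (LinearMap.inl R A B).rTensor P ((LinearMap.fst R A B).rTensor P z) +
      (LinearMap.inr R A B).rTensor P ((LinearMap.snd R A B).rTensor P z) = z := by
    rw [← LinearMap.comp_apply, ← LinearMap.comp_apply, ← LinearMap.rTensor_comp,
      ← LinearMap.rTensor_comp, ← LinearMap.add_apply, ← LinearMap.rTensor_add]
    have : LinearMap.inl R A B ∘ₗ LinearMap.fst R A B + LinearMap.inr R A B ∘ₗ LinearMap.snd R A B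
        = LinearMap.id := by
      ext <;> simp
    rw [this, LinearMap.rTensor_id]
    rfl
  rw [← h3, h1, h2, map_zero, map_zero, add_zero]

variable {A : Type u} [CommRing A]

lemma flat_biprod {M N : ModuleCat.{u} A} (hM : Module.Flat A M) (hN : Module.Flat A N) :
    Module.Flat A (M ⊞ N : ModuleCat.{u} A) := by
  have h : Module.Flat A (M × N) := flat_prod
  exact Module.Flat.of_linearEquiv (ModuleCat.biprodIsoProd M N).toLinearEquiv

/-- lower Tor bounds of mapping cones, with injectivity in the critical degree. -/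
lemma torGE_cone {K₁ K₂ : CM A} (ψ : K₁ ⟶ K₂) (a : ℤ) (h₁ : TorGE a K₁) (h₂ : TorGE a K₂)
    (hm : ∀ L : CM A, IsTest L → Mono (homologyMap ((tensR L).map ψ) a)) : TorGE a (mappingCone ψ) := by
  let D : CM A := mappingCone (𝟙 K₁)
  have hD : D.Acyclic := by
    intro i
    rw [exactAt_iff_isZero_homology, IsZero.iff_id_eq_zero, ← homologyMap_id,
      (mappingCone.homotopyToZeroOfId K₁).homologyMap_eq, homologyMap_zero]
  let ψ' : K₁ ⟶ K₂ ⊞ D := biprod.lift ψ (mappingCone.inr (𝟙 K₁))
  have hψ' : Mono ψ' := by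
    have : Mono (mappingCone.inr (𝟙 K₁)) := by
      have : ∀ n, Mono ((mappingCone.inr (𝟙 K₁)).f n) := fun n =>
        mono_of_mono_fac (mappingCone.inr_f_snd_v (𝟙 K₁) n)
      exact HomologicalComplex.mono_of_mono_f _ this
    have h3 : Mono (ψ' ≫ biprod.snd) := by simpa [ψ'] using this
    exact mono_of_mono ψ' biprod.snd
  have hfst : QuasiIso (biprod.fst : K₂ ⊞ D ⟶ K₂) := by
    let T : ShortComplex (CM A) := ShortComplex.mk (biprod.inr : D ⟶ K₂ ⊞ D) biprod.fst (by simp)
    let σ : T.Splitting :=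
      { r := biprod.snd
        s := biprod.inl
        f_r := by simp [T]
        s_g := by simp [T]
        id := by simp only [T]; rw [add_comm]; exact biprod.total }
    exact quasiIso_g σ.shortExact hD
  have hT2 : TorGE a (K₂ ⊞ D) := (torGE_iff_of_quasiIso (biprod.fst : K₂ ⊞ D ⟶ K₂)).2 h₂
  let S : ShortComplex (CM A) := ShortComplex.mk ψ' (cokernel.π ψ') (cokernel.condition _)
  have hS : S.ShortExact := { exact := ShortComplex.exact_cokernel ψ' }
  have hq : QuasiIso (mappingCone.descShortComplex S) := mappingCone.quasiIso_descShortComplex hS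
  have hc : ψ' ≫ biprod.fst = 𝟙 K₁ ≫ ψ := by simp [ψ']
  have hq2 : QuasiIso (mappingCone.map ψ' ψ (𝟙 _) biprod.fst hc) :=
    _root_.K294.FreeRes.quasiIso_mappingCone_map _ _ _ _ _
  rw [← torGE_iff_of_quasiIso (mappingCone.map ψ' ψ (𝟙 _) biprod.fst hc)]
  rw [torGE_iff_of_quasiIso (K := mappingCone ψ') (mappingCone.descShortComplex S)]
  intro L hL i hi
  have hSL := shortExact_tens hS hL
  have h2 := hT2 L hL i hi
  rw [exactAt_iff_isZero_homology] at h2 ⊢
  have hmono : Mono (homologyMap ((tensR L).map ψ') (i + 1)) := by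
    by_cases hi' : i + 1 = a
    · rw [hi']
      have h4 := hm L hL
      have h5 : homologyMap ((tensR L).map ψ) a =
          homologyMap ((tensR L).map ψ') a ≫ homologyMap ((tensR L).map biprod.fst) a := by
        rw [← homologyMap_comp, ← Functor.map_comp]
        simp [ψ']
      have h9 : Mono (homologyMap ((tensR L).map ψ') a ≫ homologyMap ((tensR L).map biprod.fst) a) := by
        rw [← h5]; exact h4
      exact mono_of_mono (homologyMap ((tensR L).map ψ') a) (homologyMap ((tensR L).map biprod.fst) a)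
    · have h6 := h₁ L hL (i + 1) (by omega)
      rw [exactAt_iff_isZero_homology] at h6
      exact ⟨fun _ _ _ => h6.eq_of_tgt _ _⟩
  have h7 := hSL.homology_exact₁ i (i + 1) (by simp)
  have h8 : hSL.δ i (i + 1) (by simp) = 0 := by
    have := hSL.δ_comp i (i + 1) (by simp)
    exact (cancel_mono (homologyMap ((tensR L).map ψ') (i + 1))).1 (by simpa using this)
  exact (hSL.homology_exact₃ i (i + 1) (by simp)).isZero_X₂ (h2.eq_of_src _ _) h8

end cone

section chart

variable {A : Type u} [CommRing A] {C : Type v} [Category.{w} C] [Abelian C] (X : Chart A C)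

instance : PreservesFiniteColimits X.us := by
  have := X.adj.leftAdjoint_preservesColimits
  exact PreservesColimits.preservesFiniteColimits _

instance : PreservesFiniteLimits X.ul := by
  have := X.adj.rightAdjoint_preservesLimits
  exact PreservesLimits.preservesFiniteLimits _

instance : X.us.PreservesHomology := inferInstance

instance : X.ul.PreservesHomology := inferInstance

instance : X.us.PreservesEpimorphisms := inferInstance

instance : X.ul.PreservesEpimorphisms := inferInstance

/-- the unit `P ⟶ ul (us P)` on complexes. -/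
noncomputable def eta (P : CochainComplex C ℤ) : P ⟶ X.ulC.obj (X.usC.obj P) where
  f i := X.adj.unit.app (P.X i)
  comm' i j _ := (X.adj.unit.naturality (P.d i j)).symm

/-- the counit `us (ul G) ⟶ G` on complexes. -/
noncomputable def eps (G : CM A) : X.usC.obj (X.ulC.obj G) ⟶ G where
  f i := X.adj.counit.app (G.X i)
  comm' i j _ := (X.adj.counit.naturality (G.d i j)).symm

lemma eta_eps (P : CochainComplex C ℤ) : X.usC.map (eta X P) ≫ eps X (X.usC.obj P) = 𝟙 _ := by
  ext i : 1
  exact X.adj.left_triangle_components (P.X i)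

lemma eps_naturality {G H : CM A} (e : G ⟶ H) :
    X.usC.map (X.ulC.map e) ≫ eps X H = eps X G ≫ e := by
  ext i : 1
  exact X.adj.counit.naturality (e.f i)

/-- the counit on the lowest term -/
noncomputable def kap (M : ModuleCat.{u} A) (a : ℤ) :
    X.usC.obj ((single C (ComplexShape.up ℤ) a).obj (X.ul.obj M)) ⟶
      (single (ModuleCat.{u} A) (ComplexShape.up ℤ) a).obj M :=
  mkHomToSingle (X.us.map (singleObjXSelf (ComplexShape.up ℤ) a (X.ul.obj M)).hom ≫ X.adj.counit.app M) (by
    intro i hi
    simp)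

instance (P : CochainComplex C ℤ) (a : ℤ) [P.IsStrictlyGE a] : (X.usC.obj P).IsStrictlyGE a := by
  rw [isStrictlyGE_iff]
  intro i hi
  exact X.us.map_isZero (P.isZero_of_isStrictlyGE a i hi)

instance (P : CochainComplex C ℤ) (b : ℤ) [P.IsStrictlyLE b] : (X.usC.obj P).IsStrictlyLE b := by
  rw [isStrictlyLE_iff]
  intro i hi
  exact X.us.map_isZero (P.isZero_of_isStrictlyLE b i hi)

instance (G : CM A) (a : ℤ) [G.IsStrictlyGE a] : (X.ulC.obj G).IsStrictlyGE a := by
  rw [isStrictlyGE_iff]
  intro i hi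
  exact X.ul.map_isZero (G.isZero_of_isStrictlyGE a i hi)

instance (G : CM A) (b : ℤ) [G.IsStrictlyLE b] : (X.ulC.obj G).IsStrictlyLE b := by
  rw [isStrictlyLE_iff]
  intro i hi
  exact X.ul.map_isZero (G.isZero_of_isStrictlyLE b i hi)

lemma toBot_kap (G : CM A) (a : ℤ) [G.IsStrictlyGE a] :
    X.usC.map (toBot (X.ulC.obj G) a) ≫ kap X (G.X a) a = eps X G ≫ toBot G a := by
  apply to_single_hom_ext
  simp [kap, toBot, eps]

/-- flatness of `ul` of flats. -/
lemma flat_ul (M : ModuleCat.{u} A) (hM : Module.Flat A M) : Module.Flat A (X.us.obj (X.ul.obj M)) := by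
  have h1 : TorGE 0 ((single (ModuleCat.{u} A) (ComplexShape.up ℤ) 0).obj M) := by
    refine torGE_of_flat _ 0 0 (fun i => ?_)
    by_cases hi : i = 0
    · subst hi
      exact flat_of_iso (singleObjXSelf (ComplexShape.up ℤ) 0 M).symm hM
    · exact flat_of_isZero (isZero_single_obj_X _ _ _ _ hi)
  have h2 := X.torGE_ul 0 _ h1
  refine flat_of_torGE_single _ (h2.of_iso ?_)
  exact (singleMapHomologicalComplex (X.ul ⋙ X.us) (ComplexShape.up ℤ) 0).app M

/-- the object and maps produced by one step. -/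
structure Step (P : CochainComplex C ℤ) (a b : ℤ) where
  E : C
  flat : Module.Flat A (X.us.obj E)
  P' : CochainComplex C ℤ
  ge : P'.IsStrictlyGE a
  le : P'.IsStrictlyLE (b - 1)
  tor : TorGE a (X.usC.obj P')
  f : (single C (ComplexShape.up ℤ) a).obj E ⟶ P'
  Q : CochainComplex C ℤ
  geQ : Q.IsStrictlyGE a
  s : Q ⟶ P
  epi_s : Epi s
  qis_s : QuasiIso s
  t : Q⟦(1 : ℤ)⟧ ⟶ mappingCone f
  qis_t : QuasiIso t

theorem exists_step (P : CochainComplex C ℤ) (a b : ℤ) (hab : a < b) [P.IsStrictlyGE a] [P.IsStrictlyLE b]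
    (h : TorGE a (X.usC.obj P)) : Nonempty (Step X P a b) := by
  obtain ⟨G, e, hG1, hG2, hG3, hG4, hG5⟩ := exists_cover (X.usC.obj P) a b h
  have he : Epi e := HomologicalComplex.epi_of_epi_f _ hG4
  have he1 : Epi (X.ulC.map e) := HomologicalComplex.epi_of_epi_f _ (fun i => by
    have := hG4 i
    exact inferInstanceAs (Epi (X.ul.map (e.f i))))
  have he2 : QuasiIso (X.ulC.map e) := inferInstance
  let Q := pullback (eta X P) (X.ulC.map e)
  let s : Q ⟶ P := pullback.fst _ _
  let ρ : Q ⟶ X.ulC.obj G := pullback.snd _ _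
  have hs1 : Epi s := inferInstance
  have hs2 : QuasiIso s := quasiIso_pullback_fst _ _
  have hQge : Q.IsStrictlyGE a := by
    rw [isStrictlyGE_iff]
    intro i hi
    exact isZero_pullback_X _ _ i (P.isZero_of_isStrictlyGE a i hi)
      ((X.ulC.obj G).isZero_of_isStrictlyGE a i hi)
  have hQle : Q.IsStrictlyLE b := by
    rw [isStrictlyLE_iff]
    intro i hi
    exact isZero_pullback_X _ _ i (P.isZero_of_isStrictlyLE b i hi)
      ((X.ulC.obj G).isZero_of_isStrictlyLE b i hi)
  have hq : QuasiIso (X.usC.map ρ ≫ eps X G) := by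
    have h1 : (X.usC.map ρ ≫ eps X G) ≫ e = X.usC.map s := by
      rw [Category.assoc, ← eps_naturality, ← Category.assoc, ← Functor.map_comp]
      simp only [s, ρ]
      rw [← pullback.condition, Functor.map_comp, Category.assoc, eta_eps, Category.comp_id]
    have h2 : QuasiIso ((X.usC.map ρ ≫ eps X G) ≫ e) := by
      rw [h1]; infer_instance
    exact quasiIso_of_comp_right _ e
  let E := X.ul.obj (G.X a)
  let φ : Q ⟶ (single C (ComplexShape.up ℤ) a).obj E := ρ ≫ toBot (X.ulC.obj G) a
  have hmono : ∀ L : CM A, IsTest L → Mono (homologyMap ((tensR L).map (X.usC.map φ)) a) := by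
    intro L hL
    have h1 : X.usC.map φ ≫ kap X (G.X a) a = (X.usC.map ρ ≫ eps X G) ≫ toBot G a := by
      simp only [φ, Functor.map_comp, Category.assoc]
      rw [toBot_kap]
    have h2 : QuasiIso ((tensR L).map (X.usC.map ρ ≫ eps X G)) := hL.kfl.quasiIso _
    have h3 := mono_homologyMap_toBot G a b (fun i _ => hG3 i) hL
    have h4 : homologyMap ((tensR L).map (X.usC.map φ)) a ≫ homologyMap ((tensR L).map (kap X (G.X a) a)) a =
        homologyMap ((tensR L).map (X.usC.map ρ ≫ eps X G)) a ≫ homologyMap ((tensR L).map (toBot G a)) a := by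
      rw [← homologyMap_comp, ← homologyMap_comp, ← Functor.map_comp, ← Functor.map_comp, h1]
    have h5 : Mono (homologyMap ((tensR L).map (X.usC.map φ)) a ≫
        homologyMap ((tensR L).map (kap X (G.X a) a)) a) := by
      rw [h4]; exact mono_comp _ _
    exact mono_of_mono (homologyMap ((tensR L).map (X.usC.map φ)) a)
      (homologyMap ((tensR L).map (kap X (G.X a) a)) a)
  have hE : Module.Flat A (X.us.obj E) := flat_ul X _ (hG3 a)
  have hT1 : TorGE a (X.usC.obj Q) := (torGE_iff_of_quasiIso (X.usC.map s)).2 h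
  have hT2 : TorGE a (X.usC.obj ((single C (ComplexShape.up ℤ) a).obj E)) := by
    refine torGE_of_flat _ a a (fun i => ?_)
    by_cases hi : i = a
    · subst hi
      exact flat_of_iso (X.us.mapIso (singleObjXSelf (ComplexShape.up ℤ) i E)).symm hE
    · exact flat_of_isZero (X.us.map_isZero (isZero_single_obj_X _ _ _ _ hi))
  have hT3 : TorGE a (X.usC.obj (mappingCone φ)) :=
    (torGE_cone (X.usC.map φ) a hT1 hT2 hmono).of_iso (mappingCone.mapHomologicalComplexIso φ X.us).symm
  have hGE : (mappingCone φ).IsGE a := by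
    rw [isGE_iff]
    intro i hi
    exact (ShortComplex.exact_map_iff_of_faithful ((mappingCone φ).sc i) X.us).1 (hT3.exactAt hi)
  have hLE : (mappingCone φ).IsStrictlyLE (b - 1) := by
    rw [isStrictlyLE_iff]
    intro i hi
    refine IsZero.of_iso ?_ (HomologicalComplex.homotopyCofiber.XIsoBiprod φ i (i + 1) rfl)
    rw [biprod_isZero_iff]
    exact ⟨Q.isZero_of_isStrictlyLE b (i + 1) (by omega), isZero_single_obj_X _ _ _ _ (by omega)⟩
  let P' := (mappingCone φ).truncGE a
  let π : mappingCone φ ⟶ P' := (mappingCone φ).πTruncGE a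
  have hπ : QuasiIso π := inferInstance
  let f : (single C (ComplexShape.up ℤ) a).obj E ⟶ P' := mappingCone.inr φ ≫ π
  have hc : mappingCone.inr φ ≫ π = 𝟙 _ ≫ f := by simp [f]
  have hm : QuasiIso (mappingCone.map (mappingCone.inr φ) f (𝟙 _) π hc) :=
    _root_.K294.FreeRes.quasiIso_mappingCone_map _ _ _ _ _
  have hr : QuasiIso (mappingCone.rotateHomotopyEquiv φ).hom := inferInstance
  exact ⟨{
    E := E
    flat := hE
    P' := P'
    ge := inferInstance
    le := truncGE_isStrictlyLE _ a (b - 1)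
    tor := (torGE_iff_of_quasiIso (X.usC.map π)).1 hT3
    f := f
    Q := Q
    geQ := hQge
    s := s
    epi_s := hs1
    qis_s := hs2
    t := (mappingCone.rotateHomotopyEquiv φ).hom ≫ mappingCone.map (mappingCone.inr φ) f (𝟙 _) π hc
    qis_t := inferInstance }⟩

/-- **LEMMA T**: a complex in degrees `[a, a + n]` of lower Tor bound `a` is quasi-isomorphic to a complex of flat
objects in the same degrees. -/
theorem exists_flatModel' (n : ℕ) : ∀ (a : ℤ) (P : CochainComplex C ℤ) [P.IsStrictlyGE a] [P.IsStrictlyLE (a + n)],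
    TorGE a (X.usC.obj P) → ∃ (W F : CochainComplex C ℤ) (s : W ⟶ P) (t : W ⟶ F), Epi s ∧ QuasiIso s ∧
      QuasiIso t ∧ W.IsStrictlyGE a ∧ F.IsStrictlyGE a ∧ F.IsStrictlyLE (a + n) ∧
      ∀ i, Module.Flat A (X.us.obj (F.X i)) := by
  induction n with
  | zero =>
    intro a P _ hLE h
    have hLE' : P.IsStrictlyLE a := by simpa using hLE
    refine ⟨P, P, 𝟙 _, 𝟙 _, inferInstance, inferInstance, inferInstance, inferInstance, inferInstance,
      hLE, fun i => ?_⟩
    rcases lt_trichotomy i a with hi | hi | hi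
    · exact flat_of_isZero (X.us.map_isZero (P.isZero_of_isStrictlyGE a i hi))
    · subst hi
      exact flat_bottom (X.usC.obj P) i i (fun j hj => flat_of_isZero
        (X.us.map_isZero (P.isZero_of_isStrictlyLE i j hj))) h
    · exact flat_of_isZero (X.us.map_isZero (P.isZero_of_isStrictlyLE a i hi))
  | succ n ih =>
    intro a P _ hLE h
    obtain ⟨S⟩ := exists_step X P a (a + (n + 1 : ℕ)) (by push_cast; omega) h
    have h1 := S.ge
    have h2 : S.P'.IsStrictlyLE (a + n) := by
      have := S.le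
      rwa [show a + (n + 1 : ℕ) - 1 = a + n by push_cast; omega] at this
    obtain ⟨W', F', s', t', hs1, hs2, ht, hW, hF1, hF2, hfl⟩ := ih a S.P' S.tor
    obtain ⟨g, hg⟩ := exists_lift_single a s' S.f
    have hc1 : g ≫ s' = 𝟙 _ ≫ S.f := by rw [hg, Category.id_comp]
    let σ₀ : mappingCone g ⟶ mappingCone S.f := mappingCone.map g S.f (𝟙 _) s' hc1
    have hσ1 : Epi σ₀ := epi_mappingCone_map _ _ _ _
    have hσ2 : QuasiIso σ₀ := _root_.K294.FreeRes.quasiIso_mappingCone_map _ _ _ _ _
    let f' := g ≫ t'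
    have hc2 : g ≫ t' = 𝟙 _ ≫ f' := by simp [f']
    let τ₀ : mappingCone g ⟶ mappingCone f' := mappingCone.map g f' (𝟙 _) t' hc2
    have hτ : QuasiIso τ₀ := _root_.K294.FreeRes.quasiIso_mappingCone_map _ _ _ _ _
    let σ := σ₀⟦(-1 : ℤ)⟧'
    let τ := τ₀⟦(-1 : ℤ)⟧'
    have hσ1' : Epi σ := inferInstance
    have hσ2' : QuasiIso σ := by simp only [σ]; rwa [quasiIso_shift_iff]
    have hτ' : QuasiIso τ := by simp only [τ]; rwa [quasiIso_shift_iff]
    let θ : S.Q ⟶ (mappingCone S.f)⟦(-1 : ℤ)⟧ := (shiftShiftNeg S.Q (1 : ℤ)).inv ≫ S.t⟦(-1 : ℤ)⟧'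
    have hθ : QuasiIso θ := by
      have := S.qis_t
      have h3 : QuasiIso (S.t⟦(-1 : ℤ)⟧') := by rwa [quasiIso_shift_iff]
      simp only [θ]; infer_instance
    have hq1 : QuasiIso (pullback.fst θ σ) := quasiIso_pullback_fst _ _
    have hq2 : QuasiIso (pullback.snd θ σ) := by
      have h3 : QuasiIso (pullback.snd θ σ ≫ σ) := by
        rw [← pullback.condition]; infer_instance
      exact quasiIso_of_comp_right _ σ
    have := S.epi_s
    have := S.qis_s
    have hgeQ := S.geQ
    have hzF : ∀ i : ℤ, (i < a ∨ a + n < i - 1) → IsZero (((mappingCone f')⟦(-1 : ℤ)⟧).X i) := by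
      intro i hi
      refine IsZero.of_iso ?_ (HomologicalComplex.homotopyCofiber.XIsoBiprod f' (i + -1) i (by simp))
      rw [biprod_isZero_iff]
      refine ⟨isZero_single_obj_X _ _ _ _ (by omega), ?_⟩
      rcases hi with hi | hi
      · exact F'.isZero_of_isStrictlyGE a (i + -1) (by omega)
      · exact F'.isZero_of_isStrictlyLE (a + n) (i + -1) (by omega)
    refine ⟨pullback θ σ, (mappingCone f')⟦(-1 : ℤ)⟧, pullback.fst θ σ ≫ S.s, pullback.snd θ σ ≫ τ,
      inferInstance, inferInstance, inferInstance, ?_, ?_, ?_, ?_⟩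
    · rw [isStrictlyGE_iff]
      intro i hi
      refine isZero_pullback_X _ _ i (S.Q.isZero_of_isStrictlyGE a i hi) ?_
      refine IsZero.of_iso ?_ (HomologicalComplex.homotopyCofiber.XIsoBiprod g (i + -1) i (by simp))
      rw [biprod_isZero_iff]
      exact ⟨isZero_single_obj_X _ _ _ _ (by omega), W'.isZero_of_isStrictlyGE a (i + -1) (by omega)⟩
    · rw [isStrictlyGE_iff]
      exact fun i hi => hzF i (Or.inl hi)
    · rw [isStrictlyLE_iff]
      exact fun i hi => hzF i (Or.inr (by push_cast at hi; omega))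
    · intro i
      have e := HomologicalComplex.homotopyCofiber.XIsoBiprod f' (i + -1) i (by simp)
      have := preservesBinaryBiproducts_of_preservesBiproducts X.us
      have e1 : X.us.obj (((mappingCone f')⟦(-1 : ℤ)⟧).X i) ≅
          X.us.obj (((single C (ComplexShape.up ℤ) a).obj S.E).X i) ⊞ X.us.obj (F'.X (i + -1)) :=
        X.us.mapIso e ≪≫ X.us.mapBiprod _ _
      refine flat_of_iso e1.symm ?_
      have h5 : Module.Flat A (X.us.obj (((single C (ComplexShape.up ℤ) a).obj S.E).X i)) := by
        by_cases hi : i = a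
        · subst hi
          exact flat_of_iso (X.us.mapIso (singleObjXSelf (ComplexShape.up ℤ) i S.E)).symm S.flat
        · exact flat_of_isZero (X.us.map_isZero (isZero_single_obj_X _ _ _ _ hi))
      exact flat_biprod h5 (hfl (i + -1))

/-- **LEMMA T**. -/
theorem exists_flatModel (a b : ℤ) (P : CochainComplex C ℤ) [P.IsStrictlyGE a] [P.IsStrictlyLE b]
    (h : TorGE a (X.usC.obj P)) : ∃ (W F : CochainComplex C ℤ) (s : W ⟶ P) (t : W ⟶ F), Epi s ∧ QuasiIso s ∧
      QuasiIso t ∧ W.IsStrictlyGE a ∧ F.IsStrictlyGE a ∧ F.IsStrictlyLE (max a b) ∧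
      ∀ i, Module.Flat A (X.us.obj (F.X i)) := by
  obtain ⟨n, hn⟩ : ∃ n : ℕ, max a b = a + n := ⟨(max a b - a).toNat, by omega⟩
  have h1 : P.IsStrictlyLE (a + n) := by
    rw [isStrictlyLE_iff]
    intro i hi
    exact P.isZero_of_isStrictlyLE b i (by omega)
  rw [hn]
  exact exists_flatModel' X n a P h

end chart

end Groth.Agent.ResProp.EF.K78
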